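import Groth.Agent.Misc12.ArtinApx.Functor

/-!
Limit preserving functors on algebras: classes come from finitely generated subalgebras.
-/

set_option autoImplicit false

universe u

open CategoryTheory CategoryTheory.Limits

namespace Groth.Agent.Misc12.AlgzApprox

theorem exists_subalgebra_lift {k : Type u} [CommRing k] (F : CommAlgCat.{u} k ⥤ Type u)
    (hF : ∀ (J : Type u) [SmallCategory J] [IsFiltered J], PreservesColimitsOfShape J F)
    (R : Type u) [CommRing R] [Algebra k R] (ξ : F.obj (CommAlgCat.of k R)) :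
    ∃ T : Subalgebra k R, T.FG ∧ ∃ x : F.obj (CommAlgCat.of k T),
      F.map (CommAlgCat.ofHom T.val) x = ξ := by
  let e : CommAlgCat.{u} k ≌ Under (CommRingCat.of k) := commAlgCatEquivUnder (CommRingCat.of k)
  let F' : Under (CommRingCat.of k) ⥤ Type u := e.inverse ⋙ F
  have hF' : ∀ (J : Type u) [SmallCategory J] [IsFiltered J], PreservesColimitsOfShape J F' := by
    intro J _ _
    have := hF J
    exact comp_preservesColimitsOfShape e.inverse F
  have hiso : ∀ (B : Type u) [CommRing B] [Algebra k B],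
      ∃ i : e.inverse.obj (Under.mk (CommRingCat.ofHom (algebraMap k B))) ≅ CommAlgCat.of k B,
        ∀ b, i.hom.hom b = b := fun B _ _ =>
    ⟨(e.unitIso.app (CommAlgCat.of k B)).symm, fun _ => rfl⟩
  obtain ⟨iR, hiR⟩ := hiso R
  obtain ⟨B, _, _, _, t, x, hx⟩ := ArtinApx.exists_fp_lift F' hF' R (F.map iR.inv ξ)
  obtain ⟨iB, hiB⟩ := hiso B
  refine ⟨t.range, ?_, F.map (CommAlgCat.ofHom t.rangeRestrict) (F.map iB.hom x), ?_⟩
  · rw [← Algebra.map_top]
    exact Subalgebra.FG.map _ Algebra.FiniteType.out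
  · have h1 : CommAlgCat.ofHom t.rangeRestrict ≫ CommAlgCat.ofHom t.range.val =
        CommAlgCat.ofHom t := rfl
    rw [← types_comp_apply (F.map _) (F.map _), ← F.map_comp, h1,
      ← types_comp_apply (F.map iB.hom) (F.map _), ← F.map_comp]
    have h2 : iB.hom ≫ CommAlgCat.ofHom t = e.inverse.map (ArtinApx.underHom t) ≫ iR.hom := by
      refine CommAlgCat.hom_ext (AlgHom.ext fun b => ?_)
      exact (congrArg t (hiB b)).trans (hiR _).symm
    simp only [F', Functor.comp_map] at hx
    rw [h2, F.map_comp, types_comp_apply, hx, ← types_comp_apply (F.map iR.inv) (F.map iR.hom),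
      ← F.map_comp, iR.inv_hom_id, F.map_id]
    rfl

end Groth.Agent.Misc12.AlgzApprox
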