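import Groth.Agent.Misc12.ArtinApx.Nbhd
import Groth.Agent.AdicLinTop.CompletionQuot

/-!
An étale neighbourhood maps to the completion.
-/

set_option autoImplicit false

universe u

namespace Groth.Agent.Misc12.AlgzApprox

variable {A : Type u} [CommRing A] {I : Ideal A} {A' : Type u} [CommRing A'] [Algebra A A']

theorem algHom_quotient_pow_eq (h : Groth.HensPair.IsNbhd I A') {n : ℕ} (σ : A' →ₐ[A] A ⧸ I ^ n)
    {x : A'} {a : A} (hx : x - algebraMap A A' a ∈ (I.map (algebraMap A A')) ^ n) :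
    σ x = Ideal.Quotient.mk (I ^ n) a := by
  have h1 : σ (x - algebraMap A A' a) = 0 :=
    Groth.HensPair.algHom_quotient_eq_zero σ (by rwa [Ideal.map_pow])
  rwa [map_sub, AlgHom.commutes, sub_eq_zero, Ideal.Quotient.algebraMap_eq] at h1

theorem exists_algHom_quotient_pow (h : Groth.HensPair.IsNbhd I A') (n : ℕ) :
    Nonempty (A' →ₐ[A] A ⧸ I ^ n) := by
  obtain ⟨σ⟩ := h.exists_hom
  have := h.etale
  suffices ∀ k, Nonempty (A' →ₐ[A] A ⧸ I ^ (k + 1)) by
    rcases n with _ | n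
    · obtain ⟨s⟩ := this 0
      exact ⟨(Ideal.Quotient.factorₐ A (Ideal.pow_le_pow_right (Nat.zero_le 1))).comp s⟩
    · exact this n
  intro k
  have hle : I ^ (k + 1) ≤ I := Ideal.pow_le_self k.succ_ne_zero
  let J : Ideal (A ⧸ I ^ (k + 1)) := I.map (Ideal.Quotient.mk _)
  have hJ : IsNilpotent J := ⟨k + 1, by
    rw [← Ideal.map_pow, Ideal.zero_eq_bot, Ideal.map_quotient_self]⟩
  let e : (A ⧸ I) →ₐ[A] (A ⧸ I ^ (k + 1)) ⧸ J :=
    Ideal.Quotient.liftₐ I (Algebra.ofId A _) fun a ha => by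
      show Ideal.Quotient.mk J (Ideal.Quotient.mk _ a) = 0
      exact Ideal.Quotient.eq_zero_iff_mem.2 (Ideal.mem_map_of_mem _ ha)
  exact ⟨Algebra.FormallySmooth.lift J hJ (e.comp σ)⟩

/-- The map from an étale neighbourhood to the completion. -/
theorem exists_toCompletion (h : Groth.HensPair.IsNbhd I A') :
    ∃ χ : A' →ₐ[A] AdicCompletion I A, ∀ (n : ℕ) (x : A') (a : A),
      x - algebraMap A A' a ∈ (I.map (algebraMap A A')) ^ n →
        AdicCompletion.evalₐ I n (χ x) = Ideal.Quotient.mk (I ^ n) a := by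
  let σ : ∀ n, A' →ₐ[A] A ⧸ I ^ n := fun n => (exists_algHom_quotient_pow h n).some
  refine ⟨AdicCompletion.liftAlgHom I σ fun {m n} hle => AlgHom.ext fun x => ?_, fun n x a hx => ?_⟩
  · obtain ⟨a, ha⟩ := ArtinApx.exists_sub_mem_pow h n x
    rw [AlgHom.comp_apply, algHom_quotient_pow_eq h _ ha,
      algHom_quotient_pow_eq h _ (Ideal.pow_le_pow_right hle ha)]
    rfl
  · rw [AdicCompletion.evalₐ_liftAlgHom, algHom_quotient_pow_eq h _ hx]

end Groth.Agent.Misc12.AlgzApprox
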