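import Groth.Agent.AdicLinTop.CompletionQuot
import Groth.Agent.S0543
import Groth.Prelude.Def_Found

/-!
A complete local algebra as a quotient of a completed polynomial ring.
-/

set_option autoImplicit false

universe u

open IsLocalRing

namespace Groth.Agent.Misc12.AlgzApprox

variable {k : Type u} [CommRing k]

/-- The ideal of the origin. -/
noncomputable def orig (k : Type u) [CommRing k] (d : ℕ) : Ideal (MvPolynomial (Fin d) k) :=
  Ideal.span (Set.range MvPolynomial.X)

theorem sub_constantCoeff_mem {d : ℕ} (p : MvPolynomial (Fin d) k) :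
    p - MvPolynomial.C (MvPolynomial.constantCoeff p) ∈ orig k d := by
  induction p using MvPolynomial.induction_on with
  | C a => simp
  | add p q hp hq =>
    rw [map_add, map_add, add_sub_add_comm]
    exact add_mem hp hq
  | mul_X p i _ =>
    simp only [map_mul, MvPolynomial.constantCoeff_X, mul_zero, map_zero, sub_zero]
    exact Ideal.mul_mem_left _ _ (Ideal.subset_span ⟨i, rfl⟩)

/-- Elements of `(b S)ⁿ` are, to first order, images of elements of `bⁿ`. -/
theorem graded_surj {P S : Type u} [CommRing P] [Algebra k P] [CommRing S] [Algebra k S]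
    (b : Ideal P) (ι : P →ₐ[k] S) (hk : ∀ r : S, ∃ c : k, r - algebraMap k S c ∈ b.map ι.toRingHom)
    (n : ℕ) (r : S) (hr : r ∈ (b.map ι.toRingHom) ^ n) :
    ∃ a ∈ b ^ n, r - ι a ∈ (b.map ι.toRingHom) ^ (n + 1) := by
  rw [← Ideal.map_pow] at hr
  induction hr using Submodule.span_induction with
  | mem z hz =>
    obtain ⟨a, ha, rfl⟩ := hz
    exact ⟨a, ha, by simp⟩
  | zero => exact ⟨0, zero_mem _, by simp⟩
  | add y z _ _ hy hz =>
    obtain ⟨a, ha, hya⟩ := hy
    obtain ⟨c, hc, hzc⟩ := hz
    exact ⟨a + c, add_mem ha hc, by rw [map_add, add_sub_add_comm]; exact add_mem hya hzc⟩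
  | smul w y hy' hy =>
    obtain ⟨a, ha, hya⟩ := hy
    obtain ⟨c, hc⟩ := hk w
    refine ⟨algebraMap k P c * a, Ideal.mul_mem_left _ _ ha, ?_⟩
    have h1 : w • y - ι (algebraMap k P c * a) =
        (w - algebraMap k S c) * y + algebraMap k S c * (y - ι a) := by
      rw [smul_eq_mul, map_mul, AlgHom.commutes]; ring
    rw [h1]
    refine add_mem ?_ (Ideal.mul_mem_left _ _ hya)
    rw [pow_succ', ← Ideal.map_pow]
    exact Ideal.mul_mem_mul hc hy'

/-- Successive approximation of elements by images. -/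
theorem surj_mod_pow {P S : Type u} [CommRing P] [Algebra k P] [CommRing S] [Algebra k S]
    (b : Ideal P) (ι : P →ₐ[k] S) (hk : ∀ r : S, ∃ c : k, r - algebraMap k S c ∈ b.map ι.toRingHom)
    (n : ℕ) (r : S) : ∃ a : P, r - ι a ∈ (b.map ι.toRingHom) ^ n := by
  induction n with
  | zero => exact ⟨0, by simp⟩
  | succ n ih =>
    obtain ⟨a, ha⟩ := ih
    obtain ⟨c, -, hc⟩ := graded_surj b ι hk n _ ha
    exact ⟨a + c, by rwa [map_add, ← sub_sub]⟩

variable (k) in
/-- A presentation of a complete local algebra with residue field `k`. -/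
theorem exists_setup [IsNoetherianRing k] (R : Type u) [CommRing R] [Algebra k R] [IsLocalRing R]
    [IsNoetherianRing R] [IsAdicComplete (maximalIdeal R) R]
    (hres : Function.Surjective (fun c : k => residue R (algebraMap k R c))) :
    ∃ (d : ℕ) (ε : MvPolynomial (Fin d) k →ₐ[k] R)
      (q : AdicCompletion (orig k d) (MvPolynomial (Fin d) k) →ₐ[k] R),
      (orig k d).map ε.toRingHom = maximalIdeal R ∧
      (∀ r : R, ∃ c : k, r - algebraMap k R c ∈ (orig k d).map ε.toRingHom) ∧
      Function.Surjective q ∧ (∀ a, q (algebraMap _ _ a) = ε a) ∧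
      (∀ j a, ε a ∈ maximalIdeal R ^ j ↔
        algebraMap (MvPolynomial (Fin d) k) (AdicCompletion (orig k d) (MvPolynomial (Fin d) k)) a ∈
          RingHom.ker q.toRingHom ⊔ ((orig k d).map (algebraMap _ _)) ^ j) ∧
      (∀ j z a, AdicCompletion.evalₐ (orig k d) j z = Ideal.Quotient.mk _ a →
        q z - ε a ∈ maximalIdeal R ^ j) := by
  obtain ⟨d, x, hx⟩ := Submodule.fg_iff_exists_fin_generating_family.1
    (IsNoetherian.noetherian (maximalIdeal R))
  let ε : MvPolynomial (Fin d) k →ₐ[k] R := MvPolynomial.aeval x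
  let b := orig k d
  let P := AdicCompletion b (MvPolynomial (Fin d) k)
  let b' : Ideal P := b.map (algebraMap _ _)
  have hεb : b.map ε.toRingHom = maximalIdeal R := by
    refine (Ideal.map_span _ _).trans (Eq.trans ?_ hx)
    rw [← Set.range_comp, Ideal.submodule_span_eq]
    congr 1
    ext i; simp [ε]
  have hk : ∀ r : R, ∃ c : k, r - algebraMap k R c ∈ b.map ε.toRingHom := fun r => by
    obtain ⟨c, hc⟩ := hres (residue R r)
    refine ⟨c, hεb.symm ▸ ?_⟩
    rw [← residue_eq_zero_iff, map_sub, sub_eq_zero]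
    exact hc.symm
  let f : ∀ n, P →+* R ⧸ maximalIdeal R ^ n := fun n =>
    (Ideal.quotientMap (maximalIdeal R ^ n) ε.toRingHom (by
      rw [← Ideal.map_le_iff_le_comap, Ideal.map_pow, hεb])).comp
        (AdicCompletion.evalₐ b n).toRingHom
  have hfac : ∀ {m n : ℕ} (hle : m ≤ n) (z : P) (a : MvPolynomial (Fin d) k),
      AdicCompletion.evalₐ b n z = Ideal.Quotient.mk _ a →
        AdicCompletion.evalₐ b m z = Ideal.Quotient.mk _ a := fun {m n} hle z a ha => by
    have h1 : z - algebraMap _ P a ∈ b' ^ n := by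
      rw [← Groth.AdicLinTop.CompletionQuot.ker_evalₐ b (IsNoetherian.noetherian b) n]
      show AdicCompletion.evalₐ b n _ = 0
      rw [map_sub, ha, Groth.AdicLinTop.CompletionQuot.evalₐ_algebraMap, sub_self]
    have h2 := Ideal.pow_le_pow_right hle h1
    rw [← Groth.AdicLinTop.CompletionQuot.ker_evalₐ b (IsNoetherian.noetherian b) m] at h2
    have h3 : AdicCompletion.evalₐ b m (z - algebraMap _ P a) = 0 := h2
    rwa [map_sub, Groth.AdicLinTop.CompletionQuot.evalₐ_algebraMap, sub_eq_zero] at h3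
  have hf : ∀ {m n : ℕ} (hle : m ≤ n), (Ideal.Quotient.factorPow _ hle).comp (f n) = f m := by
    intro m n hle
    refine RingHom.ext fun z => ?_
    obtain ⟨a, ha⟩ := Ideal.Quotient.mk_surjective (AdicCompletion.evalₐ b n z)
    simp only [f, RingHom.comp_apply, AlgHom.toRingHom_eq_coe, RingHom.coe_coe]
    rw [← ha, hfac hle z a ha.symm, Ideal.quotientMap_mk, Ideal.quotientMap_mk]
    rfl
  let q₀ : P →+* R := IsAdicComplete.liftRingHom (maximalIdeal R) f hf
  have hqe : ∀ j z a, AdicCompletion.evalₐ b j z = Ideal.Quotient.mk _ a →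
      q₀ z - ε a ∈ maximalIdeal R ^ j := fun j z a ha => by
    rw [← Ideal.Quotient.eq, IsAdicComplete.mk_liftRingHom]
    simp only [f, RingHom.comp_apply, AlgHom.toRingHom_eq_coe, RingHom.coe_coe]
    rw [ha, Ideal.quotientMap_mk]
    rfl
  have hqa : ∀ a, q₀ (algebraMap _ P a) = ε a := fun a => by
    rw [← sub_eq_zero]
    refine (inferInstance : IsHausdorff (maximalIdeal R) R).haus _ fun n => ?_
    rw [SModEq.zero, smul_eq_mul, Ideal.mul_top]
    exact hqe n _ a (Groth.AdicLinTop.CompletionQuot.evalₐ_algebraMap b n a)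
  let q : P →ₐ[k] R := { q₀ with
    commutes' := fun c => by
      show q₀ (algebraMap k P c) = _
      rw [IsScalarTower.algebraMap_apply k (MvPolynomial (Fin d) k) P, hqa, ε.commutes] }
  have hqb : b'.map q₀ = maximalIdeal R := by
    rw [Ideal.map_map, show q₀.comp (algebraMap _ P) = ε.toRingHom from RingHom.ext hqa, hεb]
  have : IsAdicComplete b' P :=
    Groth.AdicLinTop.CompletionQuot.isAdicComplete_map b (IsNoetherian.noetherian b)
  have : IsHausdorff (b'.map q₀) R := by rw [hqb]; infer_instance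
  have hsurj : Function.Surjective q₀ := by
    refine surjective_of_mk_map_comp_surjective (I := b') q₀ fun r => ?_
    obtain ⟨r, rfl⟩ := Ideal.Quotient.mk_surjective r
    obtain ⟨c, hc⟩ := hk r
    refine ⟨algebraMap k P c, ?_⟩
    show Ideal.Quotient.mk _ (q (algebraMap k P c)) = _
    rw [q.commutes, Ideal.Quotient.eq, hqb, ← hεb, ← neg_sub, neg_mem_iff]
    exact hc
  refine ⟨d, ε, q, hεb, hk, hsurj, hqa, fun j a => ?_, hqe⟩
  have h1 : (b' ^ j).map q₀ = maximalIdeal R ^ j := by rw [Ideal.map_pow, hqb]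
  rw [← hqa, ← h1, ← Ideal.mem_comap, Ideal.comap_map_of_surjective q₀ hsurj, sup_comm,
    show Ideal.comap q₀ ⊥ = RingHom.ker q.toRingHom from rfl]

end Groth.Agent.Misc12.AlgzApprox
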