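import Mathlib

/-!
The polynomial system attached to a presentation of a complete algebra and a finitely generated subalgebra.
-/

set_option autoImplicit false

universe u

namespace Groth.Agent.Misc12.AlgzApprox

/-- Finitely many elements of `P` capture a presentation `0 → ker q → P → R`, the syzygies of the
kernel and a finitely generated subalgebra of `R`. -/
theorem exists_system {k P R : Type u} [CommRing k] [IsNoetherianRing k] [CommRing P] [Algebra k P]
    [IsNoetherianRing P] [CommRing R] [Algebra k R] (q : P →ₐ[k] R) (hq : Function.Surjective q)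
    (T : Subalgebra k R) (hT : T.FG) :
    ∃ (r s : ℕ) (S : Subalgebra k P) (fS : Fin r → S) (KS : Fin s → Fin r → S), S.FG ∧
      Ideal.span (Set.range fun i => (fS i : P)) = RingHom.ker q.toRingHom ∧
      LinearMap.ker (Fintype.linearCombination P fun i => (fS i : P)) ≤
        LinearMap.range (Fintype.linearCombination P fun j i => (KS j i : P)) ∧
      (∀ j, ∑ i, KS j i * fS i = 0) ∧
      ∀ (A : Type u) [CommRing A] [Algebra k A] (g : S →ₐ[k] A), (∀ i, g (fS i) = 0) →
        ∃ θ : T →ₐ[k] A, ∀ τ : T, ∃ s : S, q (s : P) = (τ : R) ∧ θ τ = g s := by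
  classical
  obtain ⟨r, f, hf⟩ := Submodule.fg_iff_exists_fin_generating_family.1
    (IsNoetherian.noetherian (RingHom.ker q.toRingHom))
  obtain ⟨s, K, hK⟩ := Submodule.fg_iff_exists_fin_generating_family.1
    (IsNoetherian.noetherian (LinearMap.ker (Fintype.linearCombination P f)))
  have : Algebra.FiniteType k T := (Subalgebra.fg_iff_finiteType T).1 hT
  obtain ⟨l, u, hu⟩ := Algebra.FiniteType.iff_quotient_mvPolynomial''.1 this
  choose Y hY using fun i : Fin l => hq (u (MvPolynomial.X i) : R)
  have hY' : ∀ p, q (MvPolynomial.aeval Y p) = (u p : R) := fun p =>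
    DFunLike.congr_fun (MvPolynomial.algHom_ext (f := q.comp (MvPolynomial.aeval Y))
      (g := T.val.comp u) fun i => by simp [hY]) p
  obtain ⟨t, p, hp⟩ := Submodule.fg_iff_exists_fin_generating_family.1
    (IsNoetherian.noetherian (RingHom.ker u.toRingHom))
  have hpq : ∀ j, ∃ a : Fin r → P, ∑ i, a i * f i = MvPolynomial.aeval Y (p j) := fun j => by
    have h1 : u (p j) = 0 := by
      have : p j ∈ RingHom.ker u.toRingHom := hp ▸ Submodule.subset_span ⟨j, rfl⟩
      exact this
    have h2 : MvPolynomial.aeval Y (p j) ∈ RingHom.ker q.toRingHom := by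
      show q _ = 0
      rw [hY', h1, ZeroMemClass.coe_zero]
    rw [← hf] at h2
    obtain ⟨a, ha⟩ := (Submodule.mem_span_range_iff_exists_fun P).1 h2
    exact ⟨a, by simpa [smul_eq_mul] using ha⟩
  choose a ha using hpq
  let G : Set P := Set.range Y ∪ Set.range f ∪ Set.range (fun x : Fin s × Fin r => K x.1 x.2) ∪
    Set.range (fun x : Fin t × Fin r => a x.1 x.2)
  have hG : G.Finite := (((Set.finite_range _).union (Set.finite_range _)).union
    (Set.finite_range _)).union (Set.finite_range _)
  let S := Algebra.adjoin k G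
  have hSY : ∀ i, Y i ∈ S := fun i => Algebra.subset_adjoin (.inl (.inl (.inl ⟨i, rfl⟩)))
  have hSf : ∀ i, f i ∈ S := fun i => Algebra.subset_adjoin (.inl (.inl (.inr ⟨i, rfl⟩)))
  have hSK : ∀ j i, K j i ∈ S := fun j i => Algebra.subset_adjoin (.inl (.inr ⟨(j, i), rfl⟩))
  have hSa : ∀ j i, a j i ∈ S := fun j i => Algebra.subset_adjoin (.inr ⟨(j, i), rfl⟩)
  refine ⟨r, s, S, fun i => ⟨f i, hSf i⟩, fun j i => ⟨K j i, hSK j i⟩,
    Subalgebra.fg_def.2 ⟨G, hG, rfl⟩, hf, ?_, fun j => Subtype.ext ?_, fun A _ _ g hg => ?_⟩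
  · rw [Fintype.range_linearCombination]
    exact hK.ge
  · have h1 : K j ∈ LinearMap.ker (Fintype.linearCombination P f) :=
      hK ▸ Submodule.subset_span ⟨j, rfl⟩
    rw [LinearMap.mem_ker, Fintype.linearCombination_apply] at h1
    simpa [smul_eq_mul] using h1
  · let u' : MvPolynomial (Fin l) k →ₐ[k] S := MvPolynomial.aeval fun i => (⟨Y i, hSY i⟩ : S)
    have hu' : ∀ z, (u' z : P) = MvPolynomial.aeval Y z := fun z =>
      DFunLike.congr_fun (MvPolynomial.algHom_ext (f := S.val.comp u')
        (g := MvPolynomial.aeval Y) fun i => by simp [u']) z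
    have hle : RingHom.ker u.toRingHom ≤ RingHom.ker (g.comp u').toRingHom := by
      rw [← hp]
      refine Ideal.span_le.2 (Set.range_subset_iff.2 fun j => ?_)
      show g (u' (p j)) = 0
      have h1 : u' (p j) = ∑ i, ⟨a j i, hSa j i⟩ * ⟨f i, hSf i⟩ := Subtype.ext (by
        rw [hu', ← ha]
        simp)
      rw [h1, map_sum]
      exact Finset.sum_eq_zero fun i _ => by rw [map_mul, hg, mul_zero]
    refine ⟨AlgHom.liftOfSurjective u hu (g.comp u') hle, fun τ => ?_⟩
    obtain ⟨z, rfl⟩ := hu τ
    refine ⟨u' z, by rw [hu', hY'], ?_⟩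
    exact AlgHom.liftOfSurjective_apply u hu (g.comp u') hle z

end Groth.Agent.Misc12.AlgzApprox
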