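import Groth.Agent.Misc12.AlgzApprox.Perturb
import Groth.Agent.Misc12.AlgzApprox.Nbhd
import Groth.Agent.Misc12.AlgzApprox.Setup
import Groth.Agent.Misc12.AlgzApprox.Lift
import Groth.Agent.Misc12.AlgzApprox.System
import Groth.Agent.S0595
import Groth.Agent.S0600
import Groth.Agent.S0599
import Groth.Agent.S0543
import Groth.Agent.Ega4Algebra2.GRingComplete

/-!
Approximation of a formal object by a finite type algebra with the same associated graded ring.
-/

set_option autoImplicit false

universe u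

open IsLocalRing CategoryTheory CategoryTheory.Limits

namespace Groth.Agent.Misc12.AlgzApprox

/-- Membership in `b^N • ⊤` for tuples. -/
theorem pi_mem_smul_top {P : Type u} [CommRing P] {r : ℕ} {b : Ideal P} {v : Fin r → P}
    (h : ∀ i, v i ∈ b) : v ∈ b • (⊤ : Submodule P (Fin r → P)) := by
  classical
  rw [pi_eq_sum_univ v]
  exact Submodule.sum_mem _ fun i _ => Submodule.smul_mem_smul (h i) trivial

/-- The range of a difference of linear combinations. -/
theorem range_linearCombination_sub_le {P V : Type u} [CommRing P] [AddCommGroup V] [Module P V]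
    {s : ℕ} {v w : Fin s → V} {Q : Submodule P V} (h : ∀ j, v j - w j ∈ Q) :
    LinearMap.range (Fintype.linearCombination P v - Fintype.linearCombination P w) ≤ Q := by
  rintro _ ⟨c, rfl⟩
  rw [LinearMap.sub_apply, Fintype.linearCombination_apply, Fintype.linearCombination_apply,
    ← Finset.sum_sub_distrib]
  exact Submodule.sum_mem _ fun j _ => by rw [← smul_sub]; exact Q.smul_mem _ (h j)

theorem regular_completion (k : Type u) [Field k] (d : ℕ) :
    CAlg.IsRegularHom (MvPolynomial (Fin d) k)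
      (AdicCompletion (orig k d) (MvPolynomial (Fin d) k)) := by
  have hk : CAlg.IsGRing k := by
    have : IsAdicComplete (IsLocalRing.maximalIdeal k) k := by
      rw [IsLocalRing.maximalIdeal_eq_bot]; infer_instance
    exact Groth.Ega4b.isGRing_of_isAdicComplete k
  exact Groth.Agent.S0600.result _ (Groth.Agent.S0599.result k hk _) _

/-- The core approximation statement. -/
theorem exists_core {k : Type u} [Field k] (F : CommAlgCat.{u} k ⥤ Type u)
    (hF : ∀ (J : Type u) [SmallCategory J] [IsFiltered J], PreservesColimitsOfShape J F)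
    (R : Type u) [CommRing R] [Algebra k R] [IsLocalRing R] [IsNoetherianRing R]
    [IsAdicComplete (maximalIdeal R) R]
    (hres : Function.Surjective (fun c : k => residue R (algebraMap k R c)))
    (ξ : F.obj (CommAlgCat.of k R)) (N : ℕ) :
    ∃ (d : ℕ) (ε : MvPolynomial (Fin d) k →ₐ[k] R) (A : Type u) (_ : CommRing A) (_ : Algebra k A)
      (_ : Algebra.FiniteType k A) (m : Ideal A) (ι : MvPolynomial (Fin d) k →ₐ[k] A)
      (η : F.obj (CommAlgCat.of k A)),
      ((orig k d).map ε.toRingHom = maximalIdeal R ∧ (orig k d).map ι.toRingHom = m) ∧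
      (∀ r : R, ∃ c : k, r - algebraMap k R c ∈ maximalIdeal R) ∧
      (∀ r : A, ∃ c : k, r - algebraMap k A c ∈ m) ∧
      (∀ j ≤ N + 1, ∀ a, ε a ∈ maximalIdeal R ^ j ↔ ι a ∈ m ^ j) ∧
      (∀ n, ∀ a ∈ orig k d ^ n, (ε a ∈ maximalIdeal R ^ (n + 1) ↔ ι a ∈ m ^ (n + 1))) ∧
      ∀ φ : R →ₐ[k] A ⧸ m ^ (N + 1), (∀ a, φ (ε a) = Ideal.Quotient.mk _ (ι a)) →
        F.map (CommAlgCat.ofHom φ) ξ =
          F.map (CommAlgCat.ofHom (Ideal.Quotient.mkₐ k (m ^ (N + 1)))) η := by
  classical
  obtain ⟨d, ε, q, hεb, hk, hq, hqa, hqj, hqe⟩ := exists_setup k R hres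
  obtain ⟨T, hT, x, hx⟩ := exists_subalgebra_lift F hF R ξ
  have : IsNoetherianRing (AdicCompletion (orig k d) (MvPolynomial (Fin d) k)) :=
    Groth.Agent.S0543.result _ _
  obtain ⟨r, s, S, fS, KS, hSfg, hfspan, hex, hsyz, hθ⟩ := exists_system q hq T hT
  let b := orig k d
  let P := AdicCompletion b (MvPolynomial (Fin d) k)
  let b' : Ideal P := b.map (algebraMap _ _)
  have hker : ∀ j, RingHom.ker (AdicCompletion.evalₐ b j).toRingHom = b' ^ j :=
    Groth.AdicLinTop.CompletionQuot.ker_evalₐ b (IsNoetherian.noetherian b)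
  have hev : ∀ (j : ℕ) (z : P) (a : MvPolynomial (Fin d) k),
      AdicCompletion.evalₐ b j z = Ideal.Quotient.mk _ a ↔ z - algebraMap _ P a ∈ b' ^ j := by
    intro j z a
    rw [← hker j, RingHom.mem_ker]
    show _ ↔ AdicCompletion.evalₐ b j (z - algebraMap _ P a) = 0
    rw [map_sub, sub_eq_zero, Groth.AdicLinTop.CompletionQuot.evalₐ_algebraMap]
  obtain ⟨c, hc⟩ := exists_initial_eq b' (Fintype.linearCombination P fun i => (fS i : P))
    (Fintype.linearCombination P fun j i => (KS j i : P)) hex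
  let N' := N + 1 + c + 1
  have : Algebra.FiniteType k S := (Subalgebra.fg_iff_finiteType S).1 hSfg
  have : Algebra.FinitePresentation k S := Algebra.FinitePresentation.of_finiteType.1 ‹_›
  obtain ⟨A', iA, aA, kA, tA, g, hnb, hg⟩ := ArtinApx.exists_nbhd_algHom
    (fun R _ _ Λ _ _ _ => Groth.Agent.S0595.result R Λ) b (regular_completion k d) S.val
    (n := N') (by omega)
  obtain ⟨χ, hχ⟩ := exists_toCompletion hnb
  let h : S →ₐ[k] P := (χ.restrictScalars k).comp g
  have hclose : ∀ z : S, h z - (z : P) ∈ b' ^ N' := fun z => by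
    obtain ⟨a, ha⟩ := Ideal.Quotient.mk_surjective (AdicCompletion.evalₐ b N' (z : P))
    have h1 := (hev N' (h z) a).1 (hχ N' (g z) a (hg z a ha.symm))
    have h2 := (hev N' (z : P) a).1 ha.symm
    have h3 := sub_mem h1 h2
    rwa [sub_sub_sub_cancel_right] at h3
  let J' : Ideal A' := Ideal.span (Set.range fun i => g (fS i))
  have : Algebra.Etale (MvPolynomial (Fin d) k) A' := hnb.etale
  have : Algebra.FiniteType k A' := Algebra.FiniteType.trans (S := MvPolynomial (Fin d) k) inferInstance inferInstance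
  let ι : MvPolynomial (Fin d) k →ₐ[k] A' ⧸ J' :=
    (Ideal.Quotient.mkₐ k J').comp (IsScalarTower.toAlgHom k _ A')
  let bA : Ideal A' := b.map (algebraMap _ _)
  let m : Ideal (A' ⧸ J') := bA.map (Ideal.Quotient.mk J')
  have hιm : b.map ι.toRingHom = m := by
    show _ = (b.map (algebraMap _ A')).map (Ideal.Quotient.mk J')
    rw [Ideal.map_map]
    rfl
  have hιj : ∀ (a : MvPolynomial (Fin d) k) (j : ℕ),
      ι a ∈ m ^ j ↔ algebraMap _ A' a ∈ J' ⊔ bA ^ j := by
    intro a j
    show Ideal.Quotient.mk J' (algebraMap _ A' a) ∈ _ ↔ _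
    rw [← Ideal.map_pow, Ideal.mem_quotient_iff_mem_sup, sup_comm]
  let I' : Ideal P := Ideal.span (Set.range fun i => h (fS i))
  have hχb : ∀ j, ∀ z ∈ bA ^ j, χ z ∈ b' ^ j := fun j z hz => by
    have h1 := (hev j (χ z) 0).1 (hχ j z 0 (by rwa [map_zero, sub_zero]))
    rwa [map_zero, sub_zero] at h1
  have hA' : ∀ (a : MvPolynomial (Fin d) k) (j : ℕ),
      algebraMap _ A' a ∈ J' ⊔ bA ^ j ↔ algebraMap _ P a ∈ I' ⊔ b' ^ j := by
    intro a j
    constructor
    · intro ha
      obtain ⟨u, hu, v, hv, huv⟩ := Submodule.mem_sup.1 ha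
      refine Submodule.mem_sup.2 ⟨χ u, ?_, χ v, hχb j v hv, by rw [← map_add, huv, χ.commutes]⟩
      have h1 := Ideal.mem_map_of_mem χ.toRingHom hu
      rw [Ideal.map_span, ← Set.range_comp] at h1
      exact h1
    · intro ha
      obtain ⟨u, hu, v, hv, huv⟩ := Submodule.mem_sup.1 ha
      obtain ⟨cc, hcc⟩ := (Submodule.mem_span_range_iff_exists_fun P).1 hu
      choose ac hac using fun i =>
        Ideal.Quotient.mk_surjective (AdicCompletion.evalₐ b j (cc i))
      choose bf hbf using fun i => ArtinApx.exists_sub_mem_pow hnb j (g (fS i))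
      have h0 : AdicCompletion.evalₐ b j (u + v) =
          Ideal.Quotient.mk _ (∑ i, ac i * bf i) := by
        have hv0 : AdicCompletion.evalₐ b j v = 0 := by
          rw [← hker j] at hv; exact hv
        rw [map_add, hv0, add_zero, ← hcc, map_sum, map_sum]
        refine Finset.sum_congr rfl fun i _ => ?_
        rw [smul_eq_mul, map_mul, map_mul, hac i]
        exact congrArg _ (hχ j _ _ (hbf i))
      rw [huv, Groth.AdicLinTop.CompletionQuot.evalₐ_algebraMap, Ideal.Quotient.eq] at h0
      refine Submodule.mem_sup.2 ⟨∑ i, algebraMap _ A' (ac i) * g (fS i), ?_,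
        algebraMap _ A' a - ∑ i, algebraMap _ A' (ac i) * g (fS i), ?_, by abel⟩
      · exact Ideal.sum_mem _ fun i _ => Ideal.mul_mem_left _ _ (Ideal.subset_span ⟨i, rfl⟩)
      · have h2 : algebraMap _ A' a - ∑ i, algebraMap _ A' (ac i) * g (fS i) =
            algebraMap _ A' (a - ∑ i, ac i * bf i) -
              ∑ i, algebraMap _ A' (ac i) * (g (fS i) - algebraMap _ A' (bf i)) := by
          simp only [map_sub, map_sum, map_mul, mul_sub, Finset.sum_sub_distrib]
          abel
        rw [h2]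
        refine sub_mem ?_ (Ideal.sum_mem _ fun i _ => Ideal.mul_mem_left _ _ (hbf i))
        rw [← Ideal.map_pow]
        exact Ideal.mem_map_of_mem _ h0
  have hlow : ∀ j ≤ N', RingHom.ker q.toRingHom ⊔ b' ^ j = I' ⊔ b' ^ j := by
    intro j hj
    rw [← hfspan]
    apply le_antisymm <;>
      refine sup_le (Ideal.span_le.2 (Set.range_subset_iff.2 fun i => ?_)) le_sup_right
    · rw [← sub_sub_cancel (h (fS i)) (fS i : P)]
      exact sub_mem (Ideal.mem_sup_left (Ideal.subset_span ⟨i, rfl⟩))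
        (Ideal.mem_sup_right (Ideal.pow_le_pow_right hj (hclose _)))
    · rw [← sub_add_cancel (h (fS i)) (fS i : P)]
      exact add_mem (Ideal.mem_sup_right (Ideal.pow_le_pow_right hj (hclose _)))
        (Ideal.mem_sup_left (Ideal.subset_span ⟨i, rfl⟩))
  have hsmall : ∀ j ≤ N + 1, ∀ a, ε a ∈ maximalIdeal R ^ j ↔ ι a ∈ m ^ j := fun j hj a => by
    rw [hqj, hιj, hA', hlow j (by omega)]
  have hgrad : ∀ n, ∀ a ∈ b ^ n, (ε a ∈ maximalIdeal R ^ (n + 1) ↔ ι a ∈ m ^ (n + 1)) := by
    intro n a ha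
    rw [hqj, hιj, hA', ← hfspan]
    have h1 := hc N' (by omega) (Fintype.linearCombination P fun i => h (fS i))
      (Fintype.linearCombination P fun j i => h (KS j i)) ?_ ?_ ?_ n (algebraMap _ P a) (by
        rw [← Ideal.map_pow]; exact Ideal.mem_map_of_mem _ ha)
    · rwa [Fintype.range_linearCombination, Fintype.range_linearCombination] at h1
    · refine range_linearCombination_sub_le fun i => ?_
      rw [smul_eq_mul, Ideal.mul_top, ← neg_sub, neg_mem_iff]
      exact hclose _
    · refine range_linearCombination_sub_le fun j => pi_mem_smul_top fun i => ?_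
      rw [Pi.sub_apply, ← neg_sub, neg_mem_iff]
      exact hclose _
    · intro dd
      rw [Fintype.linearCombination_apply _ _ dd, map_sum]
      refine Finset.sum_eq_zero fun j _ => ?_
      rw [map_smul, Fintype.linearCombination_apply]
      have h2 := congrArg h (hsyz j)
      rw [map_sum, map_zero] at h2
      simp only [map_mul] at h2
      simp only [smul_eq_mul]
      rw [h2, mul_zero]
  obtain ⟨θ, hθ'⟩ := hθ (A' ⧸ J') ((Ideal.Quotient.mkₐ k J').comp g) fun i =>
    Ideal.Quotient.eq_zero_iff_mem.2 (Ideal.subset_span ⟨i, rfl⟩)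
  refine ⟨d, ε, A' ⧸ J', inferInstance, inferInstance, inferInstance, m, ι,
    F.map (CommAlgCat.ofHom θ) x, ⟨hεb, hιm⟩, fun r => hεb ▸ hk r, fun r => ?_, hsmall, hgrad,
    fun φ hφ => ?_⟩
  · obtain ⟨r, rfl⟩ := Ideal.Quotient.mk_surjective r
    obtain ⟨a, ha⟩ := hnb.surj r
    refine ⟨MvPolynomial.constantCoeff a, ?_⟩
    rw [← Ideal.Quotient.mk_algebraMap, ← map_sub]
    refine Ideal.mem_map_of_mem _ ?_
    rw [IsScalarTower.algebraMap_apply k (MvPolynomial (Fin d) k) A',
      ← sub_add_sub_cancel r (algebraMap _ A' a), ← map_sub]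
    exact add_mem ha (Ideal.mem_map_of_mem _ (sub_constantCoeff_mem a))
  · rw [← hx, ← types_comp_apply (F.map _) (F.map _), ← types_comp_apply (F.map _) (F.map _),
      ← F.map_comp, ← F.map_comp]
    refine congrArg (fun t => F.map t x) (CommAlgCat.hom_ext (AlgHom.ext fun τ => ?_))
    show φ (τ : R) = Ideal.Quotient.mk _ (θ τ)
    obtain ⟨z, hz, hzθ⟩ := hθ' τ
    obtain ⟨a, ha⟩ := Ideal.Quotient.mk_surjective (AdicCompletion.evalₐ b N' (z : P))
    have h1 : (τ : R) - ε a ∈ maximalIdeal R ^ (N + 1) := by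
      rw [← hz]
      exact Ideal.pow_le_pow_right (by omega) (hqe _ _ _ ha.symm)
    have h2 : φ ((τ : R) - ε a) = 0 := by
      rw [← hεb, ← Ideal.map_pow] at h1
      have h3 := Ideal.mem_map_of_mem φ.toRingHom h1
      rw [Ideal.map_map] at h3
      refine Ideal.mem_bot.1 ?_
      refine (Ideal.map_le_iff_le_comap.2 fun p hp => ?_) h3
      show φ (ε p) ∈ (⊥ : Ideal _)
      rw [Ideal.mem_bot, hφ, Ideal.Quotient.eq_zero_iff_mem, ← hιm, ← Ideal.map_pow]
      exact Ideal.mem_map_of_mem _ hp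
    rw [map_sub, sub_eq_zero, hφ] at h2
    rw [h2, hzθ, Ideal.Quotient.eq]
    show Ideal.Quotient.mk J' (algebraMap _ A' a) - Ideal.Quotient.mk J' (g z) ∈ m ^ (N + 1)
    rw [← map_sub, ← Ideal.map_pow]
    refine Ideal.mem_map_of_mem _ ?_
    rw [← neg_sub, neg_mem_iff]
    exact Ideal.pow_le_pow_right (by omega) (hg z a ha.symm)

end Groth.Agent.Misc12.AlgzApprox
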