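import Groth.Prelude.Def_AssocGr

/-!
Two approximations of the same graded ring.
-/

set_option autoImplicit false

universe u

open Polynomial

namespace Groth.Agent.Misc12.AlgzApprox

variable {P : Type u} [CommRing P] (b : Ideal P) {R : Type u} [CommRing R] (m : Ideal R) (ε : P →+* R)

theorem map_pow_mem (hε : b.map ε ≤ m) (n : ℕ) {a : P} (ha : a ∈ b ^ n) : ε a ∈ m ^ n := by
  have h := Ideal.mem_map_of_mem ε ha
  rw [Ideal.map_pow] at h
  exact Ideal.pow_right_mono hε n h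

/-- The map from the Rees algebra of `(P, b)` to the associated graded ring of `(R, m)`. -/
noncomputable def toGr (hε : b.map ε ≤ m) :
    ↥(FiltBl.IdealFiltration.adic b).rees →+* AssocGr.GrRing (FiltBl.IdealFiltration.adic m) :=
  (AssocGr.mkG (FiltBl.IdealFiltration.adic m)).toRingHom.comp
    (((Polynomial.mapRingHom ε).comp (FiltBl.IdealFiltration.adic b).rees.val.toRingHom).codRestrict
      (FiltBl.IdealFiltration.adic m).rees fun f n => by
        show (Polynomial.map ε (f : P[X])).coeff n ∈ m ^ n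
        rw [Polynomial.coeff_map]
        exact map_pow_mem b m ε hε n (f.2 n))

theorem toGr_eq_zero_iff (hε : b.map ε ≤ m) (f : (FiltBl.IdealFiltration.adic b).rees) :
    toGr b m ε hε f = 0 ↔ ∀ n, ε ((f : P[X]).coeff n) ∈ m ^ (n + 1) := by
  refine (AssocGr.mkG_eq_zero_iff _ _).trans ?_
  refine forall_congr' fun n => ?_
  show (Polynomial.map ε (f : P[X])).coeff n ∈ m ^ (n + 1) ↔ _
  rw [Polynomial.coeff_map]

theorem toGr_monom (hε : b.map ε ≤ m) (n : ℕ) (a : P) (ha : a ∈ b ^ n) :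
    toGr b m ε hε (AssocGr.monom (FiltBl.IdealFiltration.adic b) n ⟨a, ha⟩).1 =
      (AssocGr.inDeg (FiltBl.IdealFiltration.adic m) n ⟨ε a, map_pow_mem b m ε hε n ha⟩ :
        AssocGr.GrRing (FiltBl.IdealFiltration.adic m)) :=
  congrArg (AssocGr.mkG (FiltBl.IdealFiltration.adic m)) (Subtype.ext (Polynomial.map_monomial ε))

theorem exists_monom (hε : b.map ε ≤ m)
    (hs : ∀ n, ∀ r ∈ m ^ n, ∃ a ∈ b ^ n, r - ε a ∈ m ^ (n + 1)) {n : ℕ}
    {x : AssocGr.GrRing (FiltBl.IdealFiltration.adic m)}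
    (hx : x ∈ AssocGr.gr (FiltBl.IdealFiltration.adic m) n) :
    ∃ a : P, ∃ ha : a ∈ b ^ n,
      toGr b m ε hε (AssocGr.monom (FiltBl.IdealFiltration.adic b) n ⟨a, ha⟩).1 = x := by
  obtain ⟨⟨r, hr⟩, hrx⟩ := AssocGr.inDeg_surjective (FiltBl.IdealFiltration.adic m) n ⟨x, hx⟩
  obtain ⟨a, ha, hra⟩ := hs n r hr
  refine ⟨a, ha, ?_⟩
  rw [toGr_monom]
  refine Eq.trans ?_ (congrArg Subtype.val hrx)
  rw [SetLike.coe_eq_coe, ← sub_eq_zero, ← map_sub, AssocGr.inDeg_eq_zero_iff]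
  show ε a - r ∈ m ^ (n + 1)
  rw [← neg_sub, neg_mem_iff]
  exact hra

theorem toGr_surjective (hε : b.map ε ≤ m)
    (hs : ∀ n, ∀ r ∈ m ^ n, ∃ a ∈ b ^ n, r - ε a ∈ m ^ (n + 1)) :
    Function.Surjective (toGr b m ε hε) := by
  intro x
  obtain ⟨g, rfl⟩ := AssocGr.mkG_surjective _ x
  change AssocGr.mkG (FiltBl.IdealFiltration.adic m) g ∈ (toGr b m ε hε).range
  rw [← AssocGr.sum_term _ g, map_sum]
  refine Subring.sum_mem _ fun n _ => ?_
  obtain ⟨a, ha, h⟩ := exists_monom b m ε hε hs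
    (AssocGr.mkG_mem_gr _ (AssocGr.term_mem_deg (FiltBl.IdealFiltration.adic m) g n))
  exact ⟨_, h⟩

/-- Two graded rings receiving `(P, b)` with the same kernels on initial forms are isomorphic. -/
theorem exists_gr_iso {S : Type u} [CommRing S] (m' : Ideal S) (ι : P →+* S)
    (hε : b.map ε ≤ m) (hι : b.map ι ≤ m')
    (hs : ∀ n, ∀ r ∈ m ^ n, ∃ a ∈ b ^ n, r - ε a ∈ m ^ (n + 1))
    (hs' : ∀ n, ∀ r ∈ m' ^ n, ∃ a ∈ b ^ n, r - ι a ∈ m' ^ (n + 1))
    (hcrit : ∀ n, ∀ a ∈ b ^ n, (ε a ∈ m ^ (n + 1) ↔ ι a ∈ m' ^ (n + 1))) :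
    ∃ e : AssocGr.GrRing (FiltBl.IdealFiltration.adic m) ≃+*
        AssocGr.GrRing (FiltBl.IdealFiltration.adic m'),
      (∀ (n : ℕ) (x : AssocGr.GrRing (FiltBl.IdealFiltration.adic m)),
        x ∈ AssocGr.gr (FiltBl.IdealFiltration.adic m) n →
          e x ∈ AssocGr.gr (FiltBl.IdealFiltration.adic m') n) ∧
      ∀ p : P, e (algebraMap R _ (ε p)) = algebraMap S _ (ι p) := by
  have hker : RingHom.ker (toGr b m ε hε) = RingHom.ker (toGr b m' ι hι) := by
    ext f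
    rw [RingHom.mem_ker, RingHom.mem_ker, toGr_eq_zero_iff, toGr_eq_zero_iff]
    exact forall_congr' fun n => hcrit n _ (f.2 n)
  let e₁ := RingHom.quotientKerEquivOfSurjective (toGr_surjective b m ε hε hs)
  let e₂ := RingHom.quotientKerEquivOfSurjective (toGr_surjective b m' ι hι hs')
  let e := e₁.symm.trans ((Ideal.quotEquivOfEq hker).trans e₂)
  have he : ∀ f, e (toGr b m ε hε f) = toGr b m' ι hι f := fun f => by
    have h1 : e₁.symm (toGr b m ε hε f) = Ideal.Quotient.mk _ f := by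
      rw [RingEquiv.symm_apply_eq]
      rfl
    simp only [e, RingEquiv.trans_apply, h1]
    rfl
  refine ⟨e, fun n x hx => ?_, fun p => ?_⟩
  · obtain ⟨a, ha, rfl⟩ := exists_monom b m ε hε hs hx
    rw [he, toGr_monom]
    exact SetLike.coe_mem _
  · have hp : p ∈ b ^ 0 := by rw [pow_zero, Ideal.one_eq_top]; trivial
    rw [AssocGr.algebraMap_eq, AssocGr.algebraMap_eq, ← toGr_monom b m ε hε 0 p hp, he, toGr_monom]

end Groth.Agent.Misc12.AlgzApprox
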