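import Groth.Agent.Misc12.AlgzApprox.Setup

/-!
Truncations with the same kernels are isomorphic.
-/

set_option autoImplicit false

universe u

namespace Groth.Agent.Misc12.AlgzApprox

variable {k P R A : Type u} [CommRing k] [CommRing P] [Algebra k P] [CommRing R] [Algebra k R]
  [CommRing A] [Algebra k A] (b : Ideal P) (ε : P →ₐ[k] R) (ι : P →ₐ[k] A)

theorem mk_comp_surjective (hR : ∀ r : R, ∃ c : k, r - algebraMap k R c ∈ b.map ε.toRingHom) (j : ℕ) :
    Function.Surjective ((Ideal.Quotient.mkₐ k ((b.map ε.toRingHom) ^ j)).comp ε) := fun y => by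
  obtain ⟨r, rfl⟩ := Ideal.Quotient.mk_surjective y
  obtain ⟨a, ha⟩ := surj_mod_pow b ε hR j r
  exact ⟨a, (Ideal.Quotient.eq.2 ha).symm⟩

theorem exists_quot_equiv (hR : ∀ r : R, ∃ c : k, r - algebraMap k R c ∈ b.map ε.toRingHom)
    (hA : ∀ r : A, ∃ c : k, r - algebraMap k A c ∈ b.map ι.toRingHom) (j : ℕ)
    (hj : ∀ a, ε a ∈ (b.map ε.toRingHom) ^ j ↔ ι a ∈ (b.map ι.toRingHom) ^ j) :
    ∃ φ : (R ⧸ (b.map ε.toRingHom) ^ j) ≃ₐ[k] (A ⧸ (b.map ι.toRingHom) ^ j),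
      ∀ a, φ (Ideal.Quotient.mk _ (ε a)) = Ideal.Quotient.mk _ (ι a) := by
  let f := (Ideal.Quotient.mkₐ k ((b.map ε.toRingHom) ^ j)).comp ε
  let g := (Ideal.Quotient.mkₐ k ((b.map ι.toRingHom) ^ j)).comp ι
  have hf : Function.Surjective f := mk_comp_surjective b ε hR j
  have hg : Function.Surjective g := mk_comp_surjective b ι hA j
  have hker : RingHom.ker f.toRingHom = RingHom.ker g.toRingHom := by
    ext a
    exact Ideal.Quotient.eq_zero_iff_mem.trans ((hj a).trans Ideal.Quotient.eq_zero_iff_mem.symm)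
  let F := AlgHom.liftOfSurjective f hf g hker.le
  have hF : ∀ a, F (f a) = g a := AlgHom.liftOfSurjective_apply f hf g hker.le
  refine ⟨AlgEquiv.ofBijective F ⟨?_, ?_⟩, hF⟩
  · rw [injective_iff_map_eq_zero]
    intro y hy
    obtain ⟨a, rfl⟩ := hf y
    rw [hF] at hy
    exact (hker ▸ hy : a ∈ RingHom.ker f.toRingHom)
  · intro y
    obtain ⟨a, rfl⟩ := hg y
    exact ⟨f a, hF a⟩

theorem isMaximal_map {k A : Type u} [Field k] [CommRing A] [Algebra k A]
    (m : Ideal A) (hA : ∀ r : A, ∃ c : k, r - algebraMap k A c ∈ m) (h1 : (1 : A) ∉ m) :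
    m.IsMaximal ∧ Function.Surjective (fun c : k => Ideal.Quotient.mk m (algebraMap k A c)) := by
  refine ⟨Ideal.isMaximal_iff.2 ⟨h1, fun J x hmJ hx hxJ => ?_⟩, fun y => ?_⟩
  · obtain ⟨c, hc⟩ := hA x
    have hc0 : c ≠ 0 := fun h0 => hx (by rwa [h0, map_zero, sub_zero] at hc)
    have h2 : algebraMap k A c ∈ J := by
      rw [← sub_sub_cancel x (algebraMap k A c)]
      exact sub_mem hxJ (hmJ hc)
    have h3 := J.mul_mem_left (algebraMap k A c⁻¹) h2
    rwa [← map_mul, inv_mul_cancel₀ hc0, map_one] at h3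
  · obtain ⟨r, rfl⟩ := Ideal.Quotient.mk_surjective y
    obtain ⟨c, hc⟩ := hA r
    exact ⟨c, (Ideal.Quotient.eq.2 hc).symm⟩

end Groth.Agent.Misc12.AlgzApprox
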