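import Mathlib

/-!
Perturbations of exact complexes: the initial ideal of the image is unchanged (Artin's lemma).
-/

set_option autoImplicit false

universe u v

namespace Groth.Agent.Misc12.AlgzApprox

variable {P : Type u} [CommRing P] (b : Ideal P)

theorem map_mem_pow_add {V W : Type v} [AddCommGroup V] [Module P V] [AddCommGroup W] [Module P W]
    (f : V →ₗ[P] W) {N : ℕ} (hf : LinearMap.range f ≤ b ^ N • ⊤) {j : ℕ} {a : V}
    (ha : a ∈ b ^ j • (⊤ : Submodule P V)) : f a ∈ b ^ (j + N) • (⊤ : Submodule P W) := by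
  rw [pow_add, Submodule.mul_smul]
  have h := Submodule.mem_map_of_mem (f := f) ha
  rw [Submodule.map_smul'', Submodule.map_top] at h
  exact Submodule.smul_mono le_rfl hf h

theorem mem_of_le {V : Type v} [AddCommGroup V] [Module P V] {i j : ℕ} (h : i ≤ j) {a : V}
    (ha : a ∈ b ^ j • (⊤ : Submodule P V)) : a ∈ b ^ i • (⊤ : Submodule P V) :=
  Submodule.smul_mono (Ideal.pow_le_pow_right h) le_rfl ha

/-- Artin–Rees for the image of a linear map. -/
theorem exists_preimage_mem_pow [IsNoetherianRing P] {V W : Type v} [AddCommGroup V] [Module P V]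
    [AddCommGroup W] [Module P W] [Module.Finite P W] (f : V →ₗ[P] W) :
    ∃ c : ℕ, ∀ (n : ℕ) (a : V), f a ∈ b ^ n • (⊤ : Submodule P W) →
      ∃ a' ∈ b ^ (n - c) • (⊤ : Submodule P V), f a' = f a := by
  obtain ⟨c, hc⟩ := b.exists_pow_inf_eq_pow_smul (LinearMap.range f)
  refine ⟨c, fun n a ha => ?_⟩
  rcases lt_or_ge n c with h | h
  · exact ⟨a, by rw [Nat.sub_eq_zero_of_le h.le, pow_zero, Ideal.one_eq_top, Submodule.top_smul]; trivial,
      rfl⟩
  have h1 : f a ∈ b ^ n • (⊤ : Submodule P W) ⊓ LinearMap.range f := ⟨ha, ⟨a, rfl⟩⟩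
  rw [hc n h] at h1
  have h2 : f a ∈ b ^ (n - c) • LinearMap.range f := Submodule.smul_mono le_rfl inf_le_right h1
  rw [← Submodule.map_top, ← Submodule.map_smul''] at h2
  obtain ⟨a', ha', ha''⟩ := h2
  exact ⟨a', ha', ha''⟩

/-- A perturbation, congruent to a large order, of an exact complex `V' → V → P` which is still a
complex has the same initial ideal. -/
theorem exists_initial_eq [IsNoetherianRing P] {V V' : Type u} [AddCommGroup V] [Module P V]
    [Module.Finite P V] [AddCommGroup V'] [Module P V'] (f : V →ₗ[P] P) (M : V' →ₗ[P] V)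
    (hex : LinearMap.ker f ≤ LinearMap.range M) :
    ∃ c : ℕ, ∀ (N : ℕ), c < N → ∀ (f' : V →ₗ[P] P) (M' : V' →ₗ[P] V),
      LinearMap.range (f - f') ≤ b ^ N • ⊤ → LinearMap.range (M - M') ≤ b ^ N • ⊤ →
      (∀ d, f' (M' d) = 0) → ∀ (n : ℕ) (x : P), x ∈ b ^ n →
        (x ∈ LinearMap.range f ⊔ b ^ (n + 1) ↔ x ∈ LinearMap.range f' ⊔ b ^ (n + 1)) := by
  obtain ⟨cf, hcf⟩ := exists_preimage_mem_pow b f
  obtain ⟨cM, hcM⟩ := exists_preimage_mem_pow b M
  have htop : ∀ i : ℕ, b ^ i • (⊤ : Submodule P P) = b ^ i := fun i => by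
    rw [smul_eq_mul, Ideal.mul_top]
  refine ⟨cf + cM, fun N hN f' M' hf hM hc n x hx => ?_⟩
  have hsub : ∀ {j : ℕ} {a : V}, a ∈ b ^ j • (⊤ : Submodule P V) → f a - f' a ∈ b ^ (j + N) :=
    fun {j a} ha => by
      rw [← htop (j + N)]
      exact map_mem_pow_add b (f - f') hf ha
  constructor
  · intro h
    rw [Submodule.mem_sup] at h ⊢
    obtain ⟨_, ⟨a, rfl⟩, z, hz, rfl⟩ := h
    have h1 : f a ∈ b ^ n • (⊤ : Submodule P P) := by
      rw [htop]
      simpa using sub_mem hx (Ideal.pow_le_pow_right n.le_succ hz)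
    obtain ⟨a', ha', he⟩ := hcf n a h1
    refine ⟨f' a', ⟨a', rfl⟩, f a - f' a' + z, ?_, by abel⟩
    refine add_mem ?_ hz
    rw [← he]
    exact Ideal.pow_le_pow_right (by omega) (hsub ha')
  · intro h
    rw [Submodule.mem_sup] at h ⊢
    obtain ⟨_, ⟨a, rfl⟩, z, hz, rfl⟩ := h
    have h1 : f' a ∈ b ^ n := by
      simpa using sub_mem hx (Ideal.pow_le_pow_right n.le_succ hz)
    suffices ∀ (i : ℕ), ∃ a' : V, f' a' = f' a ∧
        (n < N ∨ ∃ j, a' ∈ b ^ j • (⊤ : Submodule P V) ∧ (n < j + N ∨ i ≤ j)) by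
      obtain ⟨a', he, h'⟩ := this (n + 1)
      obtain ⟨j, hj, hjn⟩ : ∃ j, a' ∈ b ^ j • (⊤ : Submodule P V) ∧ n + 1 ≤ j + N := by
        rcases h' with h' | ⟨j, hj, h''⟩
        · exact ⟨0, by rw [pow_zero, Ideal.one_eq_top, Submodule.top_smul]; trivial, by omega⟩
        · exact ⟨j, hj, by omega⟩
      refine ⟨f a', ⟨a', rfl⟩, f' a - f a' + z, ?_, by abel⟩
      refine add_mem ?_ hz
      rw [← he, ← neg_sub, neg_mem_iff]
      exact Ideal.pow_le_pow_right hjn (hsub hj)
    intro i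
    induction i with
    | zero => exact ⟨a, rfl, Or.inr ⟨0, by rw [pow_zero, Ideal.one_eq_top, Submodule.top_smul]; trivial,
        Or.inr le_rfl⟩⟩
    | succ i ih =>
      obtain ⟨a', he, h'⟩ := ih
      rcases h' with h' | ⟨j, hj, h'' | h''⟩
      · exact ⟨a', he, Or.inl h'⟩
      · exact ⟨a', he, Or.inr ⟨j, hj, Or.inl h''⟩⟩
      by_cases hjn : n < j + N
      · exact ⟨a', he, Or.inr ⟨j, hj, Or.inl hjn⟩⟩
      have h2 : f a' ∈ b ^ (j + N) • (⊤ : Submodule P P) := by
        rw [htop, ← sub_add_cancel (f a') (f' a')]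
        exact add_mem (hsub hj) (Ideal.pow_le_pow_right (by omega) (he ▸ h1))
      obtain ⟨b', hb', hbe⟩ := hcf _ a' h2
      have h3 : a' - b' ∈ LinearMap.range M := hex (by rw [LinearMap.mem_ker, map_sub, hbe, sub_self])
      obtain ⟨d, hd⟩ := h3
      obtain ⟨d', hd', hde⟩ := hcM j d (by
        rw [hd]
        exact sub_mem hj (mem_of_le b (by omega) hb'))
      refine ⟨a' - M' d', by rw [map_sub, hc, sub_zero, he], Or.inr ⟨j + N - (cf + cM), ?_, Or.inr (by omega)⟩⟩
      have h4 : a' - M' d' = b' + (M - M') d' := by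
        rw [LinearMap.sub_apply, hde, hd]; abel
      rw [h4]
      refine add_mem (mem_of_le b (by omega) hb') (mem_of_le b ?_ (map_mem_pow_add b (M - M') hM hd'))
      omega

end Groth.Agent.Misc12.AlgzApprox
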