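import Groth.Agent.Misc12.AlgzApprox.Core
import Groth.Agent.Misc12.AlgzApprox.Iso

/-!
Algebraization of a versal formal object.
-/

set_option autoImplicit false

universe u

open CategoryTheory CategoryTheory.Limits IsLocalRing

namespace Groth.Agent.Misc12.AlgzApprox

theorem quotient_pow_artinian_local {A : Type u} [CommRing A] [IsNoetherianRing A] (m : Ideal A)
    [m.IsMaximal] (n : ℕ) :
    IsLocalRing (A ⧸ m ^ (n + 1)) ∧ IsArtinianRing (A ⧸ m ^ (n + 1)) := by
  have hle : m ^ (n + 1) ≤ m := Ideal.pow_le_self n.succ_ne_zero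
  let M := m.map (Ideal.Quotient.mk (m ^ (n + 1)))
  have hM : M.IsMaximal := Ideal.IsMaximal.map_of_surjective_of_ker_le
    Ideal.Quotient.mk_surjective (by rwa [Ideal.mk_ker])
  have hprime : ∀ p : Ideal (A ⧸ m ^ (n + 1)), p.IsPrime → p = M := fun p hp => by
    refine (hM.eq_of_le hp.ne_top ?_).symm
    refine (Ideal.IsPrime.pow_le_iff (n := n + 1) n.succ_ne_zero).1 ?_
    rw [← Ideal.map_pow, Ideal.map_quotient_self]
    exact bot_le
  refine ⟨IsLocalRing.of_unique_max_ideal ⟨M, hM, fun p hp => hprime p hp.isPrime⟩, ?_⟩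
  have : Ring.KrullDimLE 0 (A ⧸ m ^ (n + 1)) :=
    Ring.KrullDimLE.mk₀ fun p hp => (hprime p hp).symm ▸ hM
  exact isArtinianRing_iff_krullDimLE_zero.2 this

section Monomial

variable {k : Type u} [CommRing k] {d : ℕ} {S : Type u} [CommRing S] [Algebra k S]

/-- Two maps agreeing modulo `m²` on coordinates agree modulo `m^(n+1)` on `bⁿ`. -/
theorem sub_mem_pow_succ (f g : MvPolynomial (Fin d) k →ₐ[k] S) (M : Ideal S)
    (hf : ∀ i, f (MvPolynomial.X i) ∈ M) (hg : ∀ i, g (MvPolynomial.X i) ∈ M)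
    (h2 : ∀ i, f (MvPolynomial.X i) - g (MvPolynomial.X i) ∈ M ^ 2) :
    (∀ p, f p - g p ∈ M) ∧ ∀ n, ∀ a ∈ orig k d ^ n, f a - g a ∈ M ^ (n + 1) := by
  have hfM : (orig k d).map f.toRingHom ≤ M := by
    rw [Ideal.map_le_iff_le_comap]
    exact Ideal.span_le.2 (Set.range_subset_iff.2 hf)
  have hgM : (orig k d).map g.toRingHom ≤ M := by
    rw [Ideal.map_le_iff_le_comap]
    exact Ideal.span_le.2 (Set.range_subset_iff.2 hg)
  have h0 : ∀ p, f p - g p ∈ M := fun p => by
    have hp := sub_constantCoeff_mem p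
    have h1 := hfM (Ideal.mem_map_of_mem _ hp)
    have h3 := hgM (Ideal.mem_map_of_mem _ hp)
    have h4 := sub_mem h1 h3
    simp only [AlgHom.toRingHom_eq_coe, RingHom.coe_coe, map_sub, ← MvPolynomial.algebraMap_eq,
      AlgHom.commutes] at h4
    rwa [sub_sub_sub_cancel_right] at h4
  refine ⟨h0, fun n => ?_⟩
  induction n with
  | zero => intro a _; rw [zero_add, pow_one]; exact h0 a
  | succ n ih =>
    intro a ha
    rw [pow_succ] at ha
    refine Submodule.mul_induction_on ha (fun p hp x hx => ?_) fun p q hp hq => ?_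
    · have hgp : g p ∈ M ^ n := by
        refine Ideal.pow_right_mono hgM n ?_
        rw [← Ideal.map_pow]; exact Ideal.mem_map_of_mem _ hp
      have hx2 : f x - g x ∈ M ^ 2 := by
        induction hx using Submodule.span_induction with
        | mem z hz => obtain ⟨i, rfl⟩ := hz; exact h2 i
        | zero => simp
        | add z w _ _ hz hw => rw [map_add, map_add, add_sub_add_comm]; exact add_mem hz hw
        | smul c z hz' hz =>
          rw [smul_eq_mul, map_mul, map_mul,
            show f c * f z - g c * g z = (f c - g c) * f z + g c * (f z - g z) by ring]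
          refine add_mem ?_ (Ideal.mul_mem_left _ _ hz)
          rw [pow_two]
          exact Ideal.mul_mem_mul (h0 c) (hfM (Ideal.mem_map_of_mem _ hz'))
      rw [map_mul, map_mul,
        show f p * f x - g p * g x = (f p - g p) * f x + g p * (f x - g x) by ring]
      refine add_mem ?_ ?_
      · rw [pow_succ]
        exact Ideal.mul_mem_mul (ih p hp) (hfM (Ideal.mem_map_of_mem _ hx))
      · rw [show n + 1 + 1 = n + 2 from rfl, pow_add]
        exact Ideal.mul_mem_mul hgp hx2
    · rw [map_add, map_add, add_sub_add_comm]; exact add_mem hp hq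

end Monomial

/-- Bijectivity of the truncations of a map respecting initial forms. -/
theorem trunc_kernel {k P R A : Type u} [CommRing k] [CommRing P] [Algebra k P] [CommRing R]
    [Algebra k R] [CommRing A] [Algebra k A] (b : Ideal P) (ε : P →ₐ[k] R) (ι : P →ₐ[k] A)
    (hR : ∀ r : R, ∃ c : k, r - algebraMap k R c ∈ b.map ε.toRingHom)
    (hA : ∀ r : A, ∃ c : k, r - algebraMap k A c ∈ b.map ι.toRingHom)
    (hcrit : ∀ n, ∀ a ∈ b ^ n,
      (ε a ∈ (b.map ε.toRingHom) ^ (n + 1) ↔ ι a ∈ (b.map ι.toRingHom) ^ (n + 1)))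
    (G : ∀ j, R →ₐ[k] A ⧸ (b.map ι.toRingHom) ^ j)
    (hG : ∀ {i j : ℕ} (h : i ≤ j), (Ideal.Quotient.factorₐ k (Ideal.pow_le_pow_right h)).comp (G j) = G i)
    (hGb : ∀ n, ∀ a ∈ b ^ n, G (n + 1) (ε a) = Ideal.Quotient.mk _ (ι a)) (j : ℕ) :
    Function.Surjective (G j) ∧ ∀ r, G j r = 0 ↔ r ∈ (b.map ε.toRingHom) ^ j := by
  induction j with
  | zero =>
    have : Subsingleton (A ⧸ (b.map ι.toRingHom) ^ 0) := by
      rw [Ideal.Quotient.subsingleton_iff, pow_zero, Ideal.one_eq_top]
    exact ⟨fun y => ⟨0, Subsingleton.elim _ _⟩, fun r => ⟨fun _ => by simp, fun _ => Subsingleton.elim _ _⟩⟩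
  | succ j ih =>
    obtain ⟨hs, hk⟩ := ih
    have hlift : ∀ r a, a ∈ b ^ j → r - ε a ∈ (b.map ε.toRingHom) ^ (j + 1) →
        G (j + 1) r = Ideal.Quotient.mk _ (ι a) := fun r a ha hra => by
      rw [← hGb j a ha, ← sub_eq_zero, ← map_sub]
      have : ∀ p ∈ b ^ (j + 1), G (j + 1) (ε p) = 0 := fun p hp => by
        rw [hGb j p (Ideal.pow_le_pow_right j.le_succ hp), Ideal.Quotient.eq_zero_iff_mem,
          ← Ideal.map_pow]
        exact Ideal.mem_map_of_mem _ hp
      rw [← Ideal.map_pow] at hra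
      exact Ideal.mem_bot.1 ((Ideal.map_le_iff_le_comap.2 this :
        (b ^ (j + 1)).map ε.toRingHom ≤ RingHom.ker (G (j + 1)).toRingHom) hra)
    have hfac : ∀ r, Ideal.Quotient.factorₐ k (Ideal.pow_le_pow_right j.le_succ) (G (j + 1) r) = G j r :=
      fun r => DFunLike.congr_fun (hG j.le_succ) r
    constructor
    · intro y
      obtain ⟨r, hr⟩ := hs (Ideal.Quotient.factorₐ k (Ideal.pow_le_pow_right j.le_succ) y)
      obtain ⟨z, hz⟩ := Ideal.Quotient.mk_surjective (y - G (j + 1) r)
      have hzj : z ∈ (b.map ι.toRingHom) ^ j := by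
        rw [← Ideal.Quotient.eq_zero_iff_mem]
        have h1 : Ideal.Quotient.factorₐ k (Ideal.pow_le_pow_right j.le_succ) (y - G (j + 1) r) = 0 := by
          rw [map_sub, hfac, hr, sub_self]
        rw [← hz] at h1
        exact h1
      obtain ⟨a, ha, hza⟩ := graded_surj b ι hA j z hzj
      refine ⟨r + ε a, ?_⟩
      rw [map_add, hGb j a ha, ← Ideal.Quotient.eq.2 hza, hz, add_sub_cancel]
    · intro r
      constructor
      · intro h
        have hrj : r ∈ (b.map ε.toRingHom) ^ j := (hk r).1 (by rw [← hfac, h, map_zero])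
        obtain ⟨a, ha, hra⟩ := graded_surj b ε hR j r hrj
        have h1 := hlift r a ha hra
        rw [h, eq_comm, Ideal.Quotient.eq_zero_iff_mem, ← hcrit j a ha] at h1
        simpa using add_mem hra h1
      · intro h
        rw [hlift r 0 (zero_mem _) (by simpa using h), map_zero, map_zero]

end Groth.Agent.Misc12.AlgzApprox
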